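import Groth.Agent.GGDesc.Span
import Groth.Agent.PerfTri.LocalLift
import Groth.Agent.ParaFLib.QSepBC
import Groth.Prelude.Def_PicLoc
import Groth.Agent.FDesc.Stalk

/-!
# Global generation descends along faithfully flat affine base change
-/

set_option autoImplicit false
set_option linter.style.haveILetI false
set_option backward.isDefEq.respectTransparency false
set_option backward.isDefEq.respectTransparency.types false

universe u

open CategoryTheory CategoryTheory.Limits AlgebraicGeometry TopologicalSpace Opposite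
open scoped TensorProduct

noncomputable section

namespace Groth.Agent.GGDesc

open Groth.Agent.PullStalk Groth.Agent.PullStalk.Sky
open Groth.Agent.Props.GenLocus (sec sec_res)

/-- The inverse image of a globally generated module is globally generated. -/
theorem isGloballyGenerated_pullback {X Y : Scheme.{u}} (g : X ⟶ Y) {G : Y.Modules}
    (h : Curv2.IsGloballyGenerated G) : Curv2.IsGloballyGenerated ((Scheme.Modules.pullback g).obj G) := by
  obtain ⟨ι, p, hp⟩ := h
  let e : (Scheme.Modules.pullback g).obj (SheafOfModules.free ι : Y.Modules) ≅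
      (SheafOfModules.free ι : X.Modules) :=
    (PreservesCoproduct.iso (Scheme.Modules.pullback g) fun _ : ι => Coh.structureModule Y) ≪≫
      Sigma.mapIso fun _ => PicLoc.pullbackStructureIso g
  have := (Scheme.Modules.pullbackPushforwardAdjunction g).isLeftAdjoint
  have hq := @Functor.map_epi _ _ _ _ (Scheme.Modules.pullback g) _ _ _ p hp
  exact ⟨ι, e.inv ≫ (Scheme.Modules.pullback g).map p, @epi_comp _ _ _ _ _ e.inv inferInstance _ hq⟩

theorem globSpan_eq_top {X : Scheme.{u}} {G : X.Modules} (h : Curv2.IsGloballyGenerated G) (y : X) :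
    globSpan G y = ⊤ := by
  obtain ⟨ι, p, hp⟩ := h
  let Q := G.presheaf.stalk y ⧸ globSpan G y
  let φ : G ⟶ sky y Q := toSky (globSpan G y).mkQ
  have h0 : p ≫ φ = 0 := by
    refine Sigma.hom_ext _ _ fun i => ?_
    rw [comp_zero, ← Category.assoc]
    refine PerfTri.LocalLift.hom_ext_sec ?_
    funext hy
    exact (Submodule.Quotient.mk_eq_zero _).2 (Submodule.subset_span ⟨_, rfl⟩)
  have hφ : φ = 0 := (cancel_epi p).1 (h0.trans comp_zero.symm)
  rw [← Submodule.ker_mkQ (globSpan G y), LinearMap.ker_eq_top]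
  refine LinearMap.ext fun t => ?_
  obtain ⟨U, hy, m, rfl⟩ := exists_germM_eq G y t
  exact congr_fun (congrArg (fun ψ => Scheme.Modules.Hom.app ψ U m) hφ) ⟨hy⟩

variable {X S S' X' : Scheme.{u}} {f : X ⟶ S} {g : S' ⟶ S} {p : X' ⟶ X} {q : X' ⟶ S'}

theorem globSpan_pullback_le (H : IsPullback p q f g) [QuasiCompact f] [QuasiSeparated f]
    [Flat g] [IsAffine S] [IsAffine S'] (F : X.Modules) [F.IsQuasicoherent] (x' : X') :
    globSpan ((Scheme.Modules.pullback p).obj F) x' ≤ Submodule.span (X'.presheaf.stalk x')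
      (Basic.unitStalkHom p F x' '' (globSpan F (p x') : Set (F.presheaf.stalk (p x')))) := by
  rw [globSpan, Submodule.span_le]
  rintro _ ⟨σ, rfl⟩
  have hT : (⊤ : S'.Opens) ≤ g ⁻¹ᵁ ⊤ := fun _ _ => trivial
  have hov : (⊤ : X'.Opens) ≤ LFDesc.over p q ⊤ (f ⁻¹ᵁ ⊤) := fun _ _ => ⟨trivial, trivial⟩
  letI := (g.appLE ⊤ ⊤ hT).hom.toAlgebra
  have hx : x' ∈ LFDesc.over p q ⊤ (f ⁻¹ᵁ ⊤) := hov trivial
  obtain ⟨z, hz⟩ := (ParaFLib.QSepBC.Φ_bijective f g p q F hT H (isAffineOpen_top S) (isAffineOpen_top S')).2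
    (QCoh.res _ (le_top) σ)
  have hσ : germM _ ⊤ x' trivial σ = germM _ _ x' hx (LFDesc.Φ f g p q F hT H.w le_rfl z) := by
    rw [hz]
    exact (germM_res_eq _ le_top x' hx σ).symm
  show germM _ ⊤ x' trivial σ ∈ _
  rw [hσ]
  clear hσ hz
  induction z using TensorProduct.induction_on with
  | zero =>
    rw [map_zero]
    refine Set.mem_of_eq_of_mem ?_ (zero_mem _)
    exact map_zero _
  | add a b ha hb =>
    rw [map_add]
    refine Set.mem_of_eq_of_mem ?_ (add_mem ha hb)
    exact map_add _ _ _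
  | tmul b m =>
    rw [LFDesc.Φ_tmul]
    refine (germM_smul _ _ x' hx _ _).symm ▸ Submodule.smul_mem _ _ (Submodule.subset_span
      ⟨germM F ⊤ (p x') trivial (show Γ(F, f ⁻¹ᵁ ⊤) from m), Submodule.subset_span ⟨_, rfl⟩, ?_⟩)
    refine (Basic.unitStalkHom_germ p F x' ⊤ trivial _).trans ?_
    rw [LimTop.unitSec_apply]
    exact (germM_res_eq _ (V := LFDesc.over p q ⊤ (f ⁻¹ᵁ ⊤)) (U := p ⁻¹ᵁ ⊤) (fun _ _ => trivial) x' hx _).symm

theorem isGloballyGenerated_descend (H : IsPullback p q f g) [QuasiCompact f] [QuasiSeparated f]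
    [Flat g] [Surjective g] [IsAffine S] [IsAffine S'] (F : X.Modules) [F.IsQuasicoherent]
    (h : Curv2.IsGloballyGenerated ((Scheme.Modules.pullback p).obj F)) :
    Curv2.IsGloballyGenerated F := by
  haveI : Flat p := MorphismProperty.of_isPullback H.flip inferInstance
  haveI : Surjective p := MorphismProperty.of_isPullback H.flip inferInstance
  refine isGloballyGenerated_of_globSpan fun x => ?_
  obtain ⟨x', rfl⟩ := p.surjective x
  have htop : Submodule.span (X'.presheaf.stalk x')
      (Basic.unitStalkHom p F x' '' (globSpan F (p x') : Set (F.presheaf.stalk (p x')))) = ⊤ :=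
    top_le_iff.1 ((globSpan_eq_top h x').ge.trans (globSpan_pullback_le H F x'))
  letI := (p.stalkMap x').hom.toAlgebra
  letI := Basic.moduleOver p F x'
  haveI : IsScalarTower (X.presheaf.stalk (p x')) (X'.presheaf.stalk x')
      (((Scheme.Modules.pullback p).obj F).presheaf.stalk x') :=
    IsScalarTower.of_algebraMap_smul fun _ _ => rfl
  haveI := FDesc.Stalk.faithfullyFlat_stalkMap p x' (Flat.stalkMap p x')
  set N := globSpan F (p x')
  let ψ : F.presheaf.stalk (p x') →ₗ[X.presheaf.stalk (p x')]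
      X'.presheaf.stalk x' ⊗[X.presheaf.stalk (p x')] (F.presheaf.stalk (p x') ⧸ N) :=
    (TensorProduct.mk (X.presheaf.stalk (p x')) (X'.presheaf.stalk x') (F.presheaf.stalk (p x') ⧸ N) 1).comp N.mkQ
  have hbc := Basic.isBaseChange_unitStalk p F x'
  have hlift : hbc.lift ψ = 0 := by
    refine LinearMap.ext_on htop ?_
    rintro _ ⟨t, ht, rfl⟩
    refine (hbc.lift_eq ψ t).trans ?_
    show (1 : X'.presheaf.stalk x') ⊗ₜ[X.presheaf.stalk (p x')] N.mkQ t = 0
    rw [Submodule.mkQ_apply, (Submodule.Quotient.mk_eq_zero _).2 ht, TensorProduct.tmul_zero]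
  rw [← Submodule.ker_mkQ N, LinearMap.ker_eq_top]
  refine LinearMap.ext fun t => ?_
  refine Module.FaithfullyFlat.tensorProduct_mk_injective (A := X.presheaf.stalk (p x'))
    (B := X'.presheaf.stalk x') _ ?_
  rw [LinearMap.zero_apply, map_zero]
  refine (hbc.lift_eq ψ t).symm.trans ?_
  rw [hlift]
  rfl

end Groth.Agent.GGDesc
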