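import Groth.Agent.AmpleLib.Twist

/-!
The span of the global sections in a stalk, and global generation (light imports; adapted from `ProjTwist.Pn.GlobGen`).
-/

set_option autoImplicit false

open CategoryTheory CategoryTheory.Limits AlgebraicGeometry TopologicalSpace Opposite

universe u

noncomputable section

namespace Groth.Agent.GGDesc

open Groth.Agent.QCoh Groth.Agent.PullStalk.Sky Groth.Agent.Props.GenLocus Groth.Agent.Props.GenTensor

variable {X : Scheme.{u}}

/-- the submodule of the stalk spanned by the global sections -/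
def globSpan (G : X.Modules) (y : X) : Submodule (X.presheaf.stalk y) (G.presheaf.stalk y) :=
  Submodule.span (X.presheaf.stalk y) (Set.range fun σ : Γ(G, ⊤) => germM G ⊤ y trivial σ)

theorem germM_res_eq (G : X.Modules) {U V : X.Opens} (h : V ≤ U) (y : X) (hy : y ∈ V) (s : Γ(G, U)) :
    germM G V y hy (res G h s) = germM G U y (h hy) s :=
  G.presheaf.germ_res_apply (homOfLE h) y hy s

theorem isGloballyGenerated_of_globSpan {G : X.Modules} (h : ∀ y, globSpan G y = ⊤) :
    Curv2.IsGloballyGenerated G := by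
  refine AmpleLib.isGloballyGenerated_of_local fun V m x hx => ?_
  suffices H : ∀ t ∈ globSpan G x, ∀ (V : X.Opens) (hx : x ∈ V) (m : Γ(G, V)), germM G V x hx m = t →
      ∃ (W : X.Opens) (hW : W ≤ V), x ∈ W ∧
        res G hW m ∈ Submodule.span Γ(X, W) (Set.range fun σ : Γ(G, ⊤) ↦ res G le_top σ) from
    H (germM G V x hx m) (h x ▸ Submodule.mem_top) V hx m rfl
  clear hx m V
  intro t ht
  -- representatives over a neighbourhood
  have hrep : ∃ (U : X.Opens) (_ : x ∈ U) (z : Γ(G, U)),
      z ∈ Submodule.span Γ(X, U) (Set.range fun σ : Γ(G, ⊤) ↦ res G le_top σ) ∧ ∀ hxU, germM G U x hxU z = t := by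
    refine Submodule.span_induction (p := fun t _ => ∃ (U : X.Opens) (_ : x ∈ U) (z : Γ(G, U)),
      z ∈ Submodule.span Γ(X, U) (Set.range fun σ : Γ(G, ⊤) ↦ res G le_top σ) ∧ ∀ hxU, germM G U x hxU z = t)
      ?_ ?_ ?_ ?_ ht
    · rintro _ ⟨σ, rfl⟩
      exact ⟨⊤, trivial, res G le_rfl σ, Submodule.subset_span ⟨σ, rfl⟩,
        fun hxU => germM_res_eq G le_rfl x hxU σ⟩
    · exact ⟨⊤, trivial, 0, zero_mem _, fun hxU => map_zero _⟩
    · rintro a b _ _ ⟨U, hU, z, hz, ha⟩ ⟨U', hU', z', hz', hb⟩
      refine ⟨U ⊓ U', ⟨hU, hU'⟩, res G inf_le_left z + res G inf_le_right z',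
        add_mem ?_ ?_, fun hxU => ?_⟩
      · exact res_mem_span G inf_le_left z hz
      · exact res_mem_span G inf_le_right z' hz'
      · refine (map_add _ _ _).trans (congrArg₂ (· + ·) ?_ ?_)
        · exact (germM_res_eq G inf_le_left x hxU z).trans (ha _)
        · exact (germM_res_eq G inf_le_right x hxU z').trans (hb _)
    · rintro c a _ ⟨U, hU, z, hz, ha⟩
      obtain ⟨U', hU', c', rfl⟩ := X.presheaf.exists_germ_eq (x := x) c
      refine ⟨U ⊓ U', ⟨hU, hU'⟩, rres inf_le_right c' • res G inf_le_left z,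
        Submodule.smul_mem _ _ (res_mem_span G inf_le_left z hz), fun hxU => ?_⟩
      refine (germM_smul G _ x hxU _ _).trans (congrArg₂ (· • ·) ?_ ?_)
      · exact X.presheaf.germ_res_apply (homOfLE inf_le_right) x hxU c'
      · exact (germM_res_eq G inf_le_left x hxU z).trans (ha _)
  obtain ⟨U, hxU, z, hz, hzt⟩ := hrep
  intro V hxV m hm
  obtain ⟨W, hxW, iU, iV, hW⟩ := G.presheaf.germ_eq x hxU hxV z m ((hzt hxU).trans hm.symm)
  exact ⟨W, iV.le, hxW, (show res G iU.le z = res G iV.le m from hW) ▸ res_mem_span G iU.le z hz⟩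
where
  res_mem_span (G : X.Modules) {U V : X.Opens} (h : V ≤ U) (z : Γ(G, U))
      (hz : z ∈ Submodule.span Γ(X, U) (Set.range fun σ : Γ(G, ⊤) ↦ res G le_top σ)) :
      res G h z ∈ Submodule.span Γ(X, V) (Set.range fun σ : Γ(G, ⊤) ↦ res G le_top σ) := by
    induction hz using Submodule.span_induction with
    | mem z hz =>
      obtain ⟨σ, rfl⟩ := hz
      rw [res_res]
      exact Submodule.subset_span ⟨σ, rfl⟩
    | zero => rw [map_zero]; exact zero_mem _
    | add a b _ _ ha hb => rw [map_add]; exact add_mem ha hb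
    | smul c a _ ha => rw [res_smul]; exact Submodule.smul_mem _ _ ha

end Groth.Agent.GGDesc
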